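import Mathlib.CategoryTheory.Abelian.RightDerived
import Mathlib.Algebra.Homology.HomologySequence
import Mathlib.Algebra.Homology.HomologySequenceLemmas
import Mathlib.Algebra.Homology.HomologicalComplexBiprod
import Mathlib.Algebra.Homology.HomologicalComplexAbelian
import Mathlib.CategoryTheory.Abelian.Injective.Resolution

/-!
The long exact sequence of right derived functors attached to a sequence of functors
`F ⟶ A ⊞ B ⟶ G` which is short exact on injectives.
-/

set_option backward.isDefEq.respectTransparency false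
set_option backward.isDefEq.respectTransparency.types false

universe v v' u u'

open CategoryTheory CategoryTheory.Limits

noncomputable section

namespace Groth.Agent.DerSeq

variable {C : Type u} [Category.{v} C] [Abelian C] [HasInjectiveResolutions C]
  {D : Type u'} [Category.{v'} D] [Abelian D]
  {F A B G : C ⥤ D} [F.Additive] [A.Additive] [B.Additive] [G.Additive]
  (η : F ⟶ A) (θ : F ⟶ B) (φ : A ⟶ G) (ψ : B ⟶ G)

/-- Short exactness on one object. -/
def ExactOn (I : C) : Prop :=
  ∃ w : biprod.lift (η.app I) (θ.app I) ≫ biprod.desc (φ.app I) (-ψ.app I) = 0,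
    (ShortComplex.mk _ _ w).ShortExact

variable {η θ φ ψ}

theorem exists_long_exact (h : ∀ I : C, Injective I → ExactOn η θ φ ψ I) (X : C) :
    ∃ δ : ∀ n : ℕ, (G.rightDerived n).obj X ⟶ (F.rightDerived (n + 1)).obj X,
      Mono (biprod.lift ((NatTrans.rightDerived η 0).app X) ((NatTrans.rightDerived θ 0).app X)) ∧
      ∀ n : ℕ,
        (ComposableArrows.mk₂
          (biprod.lift ((NatTrans.rightDerived η n).app X) ((NatTrans.rightDerived θ n).app X))
          (biprod.desc ((NatTrans.rightDerived φ n).app X)
            (-((NatTrans.rightDerived ψ n).app X)))).Exact ∧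
        (ComposableArrows.mk₂
          (biprod.desc ((NatTrans.rightDerived φ n).app X)
            (-((NatTrans.rightDerived ψ n).app X))) (δ n)).Exact ∧
        (ComposableArrows.mk₂ (δ n)
          (biprod.lift ((NatTrans.rightDerived η (n + 1)).app X)
            ((NatTrans.rightDerived θ (n + 1)).app X))).Exact := by
  let P := injectiveResolution X
  let cη := (NatTrans.mapHomologicalComplex η (ComplexShape.up ℕ)).app P.cocomplex
  let cθ := (NatTrans.mapHomologicalComplex θ (ComplexShape.up ℕ)).app P.cocomplex
  let cφ := (NatTrans.mapHomologicalComplex φ (ComplexShape.up ℕ)).app P.cocomplex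
  let cψ := (NatTrans.mapHomologicalComplex ψ (ComplexShape.up ℕ)).app P.cocomplex
  let f := biprod.lift cη cθ
  let g := biprod.desc cφ (-cψ)
  have hf : ∀ i, f.f i ≫ (HomologicalComplex.biprodXIso _ _ i).hom =
      biprod.lift (η.app (P.cocomplex.X i)) (θ.app (P.cocomplex.X i)) := fun i => by
    apply biprod.hom_ext
    · rw [Category.assoc, HomologicalComplex.biprodXIso_hom_fst, ← HomologicalComplex.comp_f,
        biprod.lift_fst]
      exact (biprod.lift_fst (η.app (P.cocomplex.X i)) (θ.app (P.cocomplex.X i))).symm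
    · rw [Category.assoc, HomologicalComplex.biprodXIso_hom_snd, ← HomologicalComplex.comp_f,
        biprod.lift_snd]
      exact (biprod.lift_snd (η.app (P.cocomplex.X i)) (θ.app (P.cocomplex.X i))).symm
  have hg : ∀ i, (HomologicalComplex.biprodXIso _ _ i).inv ≫ g.f i =
      biprod.desc (φ.app (P.cocomplex.X i)) (-ψ.app (P.cocomplex.X i)) := fun i => by
    apply biprod.hom_ext'
    · rw [HomologicalComplex.inl_biprodXIso_inv_assoc, ← HomologicalComplex.comp_f,
        biprod.inl_desc]
      exact (biprod.inl_desc (φ.app (P.cocomplex.X i)) (-ψ.app (P.cocomplex.X i))).symm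
    · rw [HomologicalComplex.inr_biprodXIso_inv_assoc, ← HomologicalComplex.comp_f,
        biprod.inr_desc]
      exact (biprod.inr_desc (φ.app (P.cocomplex.X i)) (-ψ.app (P.cocomplex.X i))).symm
  have hfg : f ≫ g = 0 := by
    ext i
    obtain ⟨w, -⟩ := h (P.cocomplex.X i) (P.injective i)
    rw [HomologicalComplex.comp_f, HomologicalComplex.zero_f, ← w, ← hf, ← hg, Category.assoc,
      Iso.hom_inv_id_assoc]
  let S : ShortComplex (CochainComplex D ℕ) := ShortComplex.mk f g hfg
  have hS : S.ShortExact := HomologicalComplex.shortExact_of_degreewise_shortExact S fun i => by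
    obtain ⟨w, hw⟩ := h (P.cocomplex.X i) (P.injective i)
    exact ShortComplex.shortExact_of_iso (ShortComplex.isoMk (S₁ := ShortComplex.mk _ _ w) (Iso.refl _)
      (HomologicalComplex.biprodXIso ((A.mapHomologicalComplex (ComplexShape.up ℕ)).obj P.cocomplex) ((B.mapHomologicalComplex (ComplexShape.up ℕ)).obj P.cocomplex) i).symm (Iso.refl _)
      (by
        show 𝟙 _ ≫ f.f i = biprod.lift _ _ ≫ (HomologicalComplex.biprodXIso _ _ i).inv
        rw [← hf, Category.assoc, Iso.hom_inv_id, Category.comp_id, Category.id_comp])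
      (by
        show (HomologicalComplex.biprodXIso _ _ i).inv ≫ g.f i = biprod.desc _ _ ≫ 𝟙 _
        exact (hg i).trans (Category.comp_id _).symm)) hw
  let H : ∀ _ : ℕ, CochainComplex D ℕ ⥤ D := fun n =>
    HomologicalComplex.homologyFunctor D (ComplexShape.up ℕ) n
  let e : ∀ n, (H n).obj S.X₂ ≅ (A.rightDerived n).obj X ⊞ (B.rightDerived n).obj X := fun n =>
    have : (H n).Additive := inferInstanceAs
      (HomologicalComplex.homologyFunctor D (ComplexShape.up ℕ) n).Additive
    have := preservesBinaryBiproducts_of_preservesBiproducts (H n)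
    (H n).mapBiprod _ _ ≪≫
      biprod.mapIso (P.isoRightDerivedObj A n).symm (P.isoRightDerivedObj B n).symm
  have hfn : ∀ n, (P.isoRightDerivedObj F n).hom ≫ (H n).map f ≫ (e n).hom =
      biprod.lift ((NatTrans.rightDerived η n).app X) ((NatTrans.rightDerived θ n).app X) := fun n => by
    apply biprod.hom_ext
    · rw [biprod.lift_fst, P.rightDerived_app_eq η n]
      simp only [e, Iso.trans_hom, biprod.mapIso_hom, Category.assoc, biprod.map_fst]
      erw [Functor.mapBiprod_hom]
      simp only [biprod.lift_fst_assoc, ← Functor.map_comp_assoc]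
      rw [show f ≫ biprod.fst = cη from biprod.lift_fst _ _]
      rfl
    · rw [biprod.lift_snd, P.rightDerived_app_eq θ n]
      simp only [e, Iso.trans_hom, biprod.mapIso_hom, Category.assoc, biprod.map_snd]
      erw [Functor.mapBiprod_hom]
      simp only [biprod.lift_snd_assoc, ← Functor.map_comp_assoc]
      rw [show f ≫ biprod.snd = cθ from biprod.lift_snd _ _]
      rfl
  have hgn : ∀ n, (e n).inv ≫ (H n).map g ≫ (P.isoRightDerivedObj G n).inv =
      biprod.desc ((NatTrans.rightDerived φ n).app X) (-((NatTrans.rightDerived ψ n).app X)) := fun n => by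
    have : (H n).Additive := inferInstanceAs
      (HomologicalComplex.homologyFunctor D (ComplexShape.up ℕ) n).Additive
    apply biprod.hom_ext'
    · rw [biprod.inl_desc, P.rightDerived_app_eq φ n]
      simp only [e, Iso.trans_inv, biprod.mapIso_inv, Category.assoc, biprod.inl_map_assoc]
      erw [Functor.mapBiprod_inv]
      simp only [biprod.inl_desc_assoc, ← Functor.map_comp_assoc]
      rw [show biprod.inl ≫ g = cφ from biprod.inl_desc _ _]
      rfl
    · rw [biprod.inr_desc, P.rightDerived_app_eq ψ n]
      simp only [e, Iso.trans_inv, biprod.mapIso_inv, Category.assoc, biprod.inr_map_assoc]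
      erw [Functor.mapBiprod_inv]
      simp only [biprod.inr_desc_assoc, ← Functor.map_comp_assoc]
      rw [show biprod.inr ≫ g = -cψ from biprod.inr_desc _ _, Functor.map_neg]
      simp
      rfl
  let dl : ∀ n, (G.rightDerived n).obj X ⟶ (F.rightDerived (n + 1)).obj X := fun n =>
    (P.isoRightDerivedObj G n).hom ≫ hS.δ n (n + 1) rfl ≫ (P.isoRightDerivedObj F (n + 1)).inv
  refine ⟨dl, ?_, fun n => ⟨?_, ?_, ?_⟩⟩
  · rw [← hfn]
    haveI := hS.mono_f
    haveI : Mono ((H 0).map f) :=
      HomologicalComplex.mono_homologyMap_of_mono_of_not_rel S.f 0 (fun j => by simp)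
    infer_instance
  · have w : biprod.lift ((NatTrans.rightDerived η n).app X) ((NatTrans.rightDerived θ n).app X) ≫
        biprod.desc ((NatTrans.rightDerived φ n).app X) (-((NatTrans.rightDerived ψ n).app X)) = 0 := by
      rw [← hfn, ← hgn]
      simp only [Category.assoc, Iso.hom_inv_id_assoc, ← Functor.map_comp_assoc, hfg]
      rw [Functor.map_zero, zero_comp, comp_zero]
    refine ShortComplex.Exact.exact_toComposableArrows (S := ShortComplex.mk _ _ w) ?_
    refine ShortComplex.exact_of_iso (ShortComplex.isoMk (P.isoRightDerivedObj F n).symm (e n)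
      (P.isoRightDerivedObj G n).symm ?_ ?_) (hS.homology_exact₂ n)
    · show (P.isoRightDerivedObj F n).inv ≫ biprod.lift _ _ = (H n).map f ≫ (e n).hom
      rw [← hfn, Iso.inv_hom_id_assoc]
    · show (e n).hom ≫ biprod.desc _ _ = (H n).map g ≫ (P.isoRightDerivedObj G n).inv
      rw [← hgn, Iso.hom_inv_id_assoc]
  · have w : biprod.desc ((NatTrans.rightDerived φ n).app X) (-((NatTrans.rightDerived ψ n).app X)) ≫
        dl n = 0 := by
      rw [← hgn]
      simp only [dl, Category.assoc, Iso.inv_hom_id_assoc]
      erw [hS.comp_δ_assoc n (n + 1) rfl]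
      rw [zero_comp, comp_zero]
    refine ShortComplex.Exact.exact_toComposableArrows (S := ShortComplex.mk _ _ w) ?_
    refine ShortComplex.exact_of_iso (ShortComplex.isoMk (e n) (P.isoRightDerivedObj G n).symm
      (P.isoRightDerivedObj F (n + 1)).symm ?_ ?_) (hS.homology_exact₃ n (n + 1) rfl)
    · show (e n).hom ≫ biprod.desc _ _ = (H n).map g ≫ (P.isoRightDerivedObj G n).inv
      rw [← hgn, Iso.hom_inv_id_assoc]
    · show (P.isoRightDerivedObj G n).inv ≫ dl n = hS.δ n (n + 1) rfl ≫ _
      exact Iso.inv_hom_id_assoc _ _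
  · have w : dl n ≫ biprod.lift ((NatTrans.rightDerived η (n + 1)).app X)
        ((NatTrans.rightDerived θ (n + 1)).app X) = 0 := by
      rw [← hfn]
      simp only [dl, Category.assoc, Iso.inv_hom_id_assoc]
      erw [hS.δ_comp_assoc n (n + 1) rfl]
      rw [zero_comp, comp_zero]
    refine ShortComplex.Exact.exact_toComposableArrows (S := ShortComplex.mk _ _ w) ?_
    refine ShortComplex.exact_of_iso (ShortComplex.isoMk (P.isoRightDerivedObj G n).symm
      (P.isoRightDerivedObj F (n + 1)).symm (e (n + 1)) ?_ ?_) (hS.homology_exact₁ n (n + 1) rfl)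
    · show (P.isoRightDerivedObj G n).inv ≫ dl n = hS.δ n (n + 1) rfl ≫ _
      exact Iso.inv_hom_id_assoc _ _
    · show (P.isoRightDerivedObj F (n + 1)).inv ≫ biprod.lift _ _ = (H (n + 1)).map f ≫ (e (n + 1)).hom
      rw [← hfn, Iso.inv_hom_id_assoc]

end Groth.Agent.DerSeq

end
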