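import Groth.Agent.DerSeq.Basic
import Groth.Agent.SiteBase.AbSecExact

/-!
Short exactness of `F ⟶ A ⊞ B ⟶ G` for abelian sheaves, checked on sections.
-/


universe w v u

open CategoryTheory CategoryTheory.Limits Opposite

namespace Groth.Agent.DerSeq

variable {C : Type u} [Category.{v} C] {J : GrothendieckTopology C} [HasSheafify J AddCommGrpCat.{w}]
  [J.WEqualsLocallyBijective AddCommGrpCat.{w}]

/-- A complex of abelian sheaves which is pointwise short exact is short exact. -/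
theorem shortExact_of_sections (S : ShortComplex (Sheaf J AddCommGrpCat.{w}))
    (h₁ : ∀ U : C, Function.Injective (S.f.hom.app (op U)))
    (h₂ : ∀ (U : C) (x : S.X₂.obj.obj (op U)), S.g.hom.app (op U) x = 0 → ∃ y, S.f.hom.app (op U) y = x)
    (h₃ : ∀ U : C, Function.Surjective (S.g.hom.app (op U))) : S.ShortExact := by
  have := SiteBase.hasSheafCompose_forget.{w} J
  have hmono : Mono S.f := by
    have : ∀ U : Cᵒᵖ, Mono (((sheafToPresheaf J AddCommGrpCat.{w}).map S.f).app U) := fun U => (AddCommGrpCat.mono_iff_injective _).2 (h₁ U.unop)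
    have : Mono ((sheafToPresheaf J AddCommGrpCat.{w}).map S.f) := NatTrans.mono_of_mono_app _
    exact (sheafToPresheaf J AddCommGrpCat.{w}).mono_of_mono_map this
  have hepi : Epi S.g := by
    refine (Sheaf.isLocallySurjective_iff_epi' (A := AddCommGrpCat.{w}) _).1 ⟨fun {V} z => ?_⟩
    convert J.top_mem V using 1
    ext W f
    exact ⟨fun _ => trivial, fun _ => h₃ _ _⟩
  have hex : S.Exact := by
    rw [ShortComplex.exact_iff_epi_kernel_lift]
    refine (Sheaf.isLocallySurjective_iff_epi' (A := AddCommGrpCat.{w}) _).1 ⟨fun {V} z => ?_⟩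
    convert J.top_mem V using 1
    ext W f
    refine ⟨fun _ => trivial, fun _ => ?_⟩
    have key : ∀ x : (kernel S.g).obj.obj (op W), ∃ y, (kernel.lift S.g S.f S.zero).hom.app (op W) y = x := by
      intro x
      obtain ⟨y, hy⟩ := h₂ W ((kernel.ι S.g).hom.app (op W) x)
        (by
          show (kernel.ι S.g ≫ S.g).hom.app (op W) x = 0
          rw [kernel.condition]; rfl)
      refine ⟨y, SiteBase.sheaf_app_injective (kernel.ι S.g) W ?_⟩
      have e : (kernel.lift S.g S.f S.zero ≫ kernel.ι S.g).hom.app (op W) y = S.f.hom.app (op W) y := by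
        rw [kernel.lift_ι]
      exact e.trans hy
    exact key _
  exact { exact := hex }

variable {F A B G : Sheaf J AddCommGrpCat.{w}} (η : F ⟶ A) (θ : F ⟶ B) (φ : A ⟶ G) (ψ : B ⟶ G)

theorem shortExact_lift_desc (hcomm : η ≫ φ = θ ≫ ψ)
    (h₁ : ∀ (U : C) (y : F.obj.obj (op U)), η.hom.app (op U) y = 0 → θ.hom.app (op U) y = 0 → y = 0)
    (h₂ : ∀ (U : C) (a : A.obj.obj (op U)) (b : B.obj.obj (op U)),
      φ.hom.app (op U) a = ψ.hom.app (op U) b → ∃ y, η.hom.app (op U) y = a ∧ θ.hom.app (op U) y = b)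
    (h₃ : ∀ U : C, Function.Surjective (φ.hom.app (op U))) :
    ∃ w : biprod.lift η θ ≫ biprod.desc φ (-ψ) = 0, (ShortComplex.mk _ _ w).ShortExact := by
  have w : biprod.lift η θ ≫ biprod.desc φ (-ψ) = 0 := by
    rw [biprod.lift_desc, Preadditive.comp_neg, hcomm, add_neg_cancel]
  refine ⟨w, shortExact_of_sections _ (fun U => ?_) (fun U x hx => ?_) (fun U z => ?_)⟩
  · refine (injective_iff_map_eq_zero _).2 fun y hy => h₁ U y ?_ ?_
    · have e : (biprod.lift η θ ≫ biprod.fst).hom.app (op U) y = 0 := by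
        show (biprod.fst : A ⊞ B ⟶ A).hom.app (op U) ((biprod.lift η θ).hom.app (op U) y) = 0
        rw [show (biprod.lift η θ).hom.app (op U) y = 0 from hy, map_zero]
      rwa [biprod.lift_fst] at e
    · have e : (biprod.lift η θ ≫ biprod.snd).hom.app (op U) y = 0 := by
        show (biprod.snd : A ⊞ B ⟶ B).hom.app (op U) ((biprod.lift η θ).hom.app (op U) y) = 0
        rw [show (biprod.lift η θ).hom.app (op U) y = 0 from hy, map_zero]
      rwa [biprod.lift_snd] at e
  · have tot : ∀ z : (A ⊞ B).obj.obj (op U),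
        (biprod.inl : A ⟶ A ⊞ B).hom.app (op U) ((biprod.fst : A ⊞ B ⟶ A).hom.app (op U) z) +
          (biprod.inr : B ⟶ A ⊞ B).hom.app (op U) ((biprod.snd : A ⊞ B ⟶ B).hom.app (op U) z) = z :=
      fun z => by
      show ((biprod.fst : A ⊞ B ⟶ A) ≫ biprod.inl + (biprod.snd : A ⊞ B ⟶ B) ≫ biprod.inr).hom.app (op U) z = z
      rw [biprod.total]; rfl
    have hx' : φ.hom.app (op U) ((biprod.fst : A ⊞ B ⟶ A).hom.app (op U) x) =
        ψ.hom.app (op U) ((biprod.snd : A ⊞ B ⟶ B).hom.app (op U) x) := by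
      have e : (biprod.desc φ (-ψ) : A ⊞ B ⟶ G) = biprod.fst ≫ φ - biprod.snd ≫ ψ := by
        rw [biprod.desc_eq, Preadditive.comp_neg, sub_eq_add_neg]
      change (biprod.desc φ (-ψ)).hom.app (op U) x = 0 at hx
      rw [e] at hx
      exact sub_eq_zero.1 hx
    obtain ⟨y, hy₁, hy₂⟩ := h₂ U _ _ hx'
    refine ⟨y, ?_⟩
    show (biprod.lift η θ).hom.app (op U) y = x
    rw [biprod.lift_eq]
    exact (congrArg₂ (fun a b => (biprod.inl : A ⟶ A ⊞ B).hom.app (op U) a +
      (biprod.inr : B ⟶ A ⊞ B).hom.app (op U) b) hy₁ hy₂).trans (tot x)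
  · obtain ⟨a, ha⟩ := h₃ U z
    refine ⟨(biprod.inl : A ⟶ A ⊞ B).hom.app (op U) a, ?_⟩
    show (biprod.inl ≫ biprod.desc φ (-ψ)).hom.app (op U) a = z
    rw [biprod.inl_desc]
    exact ha

end Groth.Agent.DerSeq
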